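import Cfsg.Agent.Lib.SporPres.Rudvalis.S4060Tab

/-! # Generated coset enumeration data: S4060 -/

set_option autoImplicit false

namespace Cfsg.Agent.Lib.SporPres.Rudvalis.S4060

open Cfsg.Agent.Lib.Coset

/-- Packed derivations. -/
def proofsE19968 : List ℕ := [
  0x211f,
  0x26f2,
  0x1f78,
  0xf9a,
  0x1a09,
  0x282b,
  0x1f79,
  0x2036,
  0x2084,
  0x2087,
  0x121f,
  0xf9b,
  0x1b54,
  0x1b55,
  0xf9c,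
  0x1e08,
  0x1acb,
  0x22c1,
  0x2753,
  0x2613,
  0x20ea,
  0xf9d,
  0x280e,
  0x22c5,
  0xf9e,
  0x20eb,
  0x261d,
  0x1104,
  0x2808,
  0x2853,
  0x26b5,
  0xf9f,
  0x26f3,
  0x256b,
  0xfa0,
  0x2569,
  0x1407,
  0xfa1,
  0x2753,
  0x277f,
  0x256a,
  0x26f2,
  0xfa2,
  0x2750,
  0x287d,
  0x282b,
  0x272a,
  0x1a7d,
  0xfa3,
  0x2277,
  0x1b84,
  0x1c97,
  0x1c34,
  0x1c83,
  0xfa4,
  0x1d1c,
  0x1c35,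
  0x1142,
  0x1c10,
  0x1b52,
  0x2432,
  0xfa5,
  0xfa6,
  0x1a03,
  0x236a,
  0x256a,
  0x1ed6,
  0x199d,
  0xfa7,
  0x1a7f,
  0x2197,
  0x1963,
  0x2227,
  0x230a,
  0x211e,
  0x2052,
  0xfa8,
  0x1f00,
  0x2034,
  0xfa9,
  0x20b8,
  0x1f65,
  0x225e,
  0x22c9,
  0xfaa,
  0x19b9,
  0x13ee,
  0xfab,
  0x1753,
  0x17c7,
  0x1fc1,
  0x17b5,
  0x2773,
  0xfac,
  0x243f,
  0x23f9,
  0x2555,
  0x2355,
  0x1fa6,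
  0xfad,
  0x2161,
  0x2162,
  0x274d,
  0x206b,
  0xfae,
  0x27c2,
  0x255a,
  0x17d4,
  0x19c6,
  0x185a,
  0x12e0,
  0xfaf,
  0x1b50,
  0x11b9,
  0x1d46,
  0xfb0,
  0x1d45,
  0xfb1,
  0x16b4,
  0x2059,
  0x1dfc,
  0x173a,
  0xfb2,
  0x1f30,
  0x264e,
  0x1356,
  0x22d2,
  0x1b1c,
  0x1c0c,
  0xfb3,
  0x218f,
  0x1aa2,
  0x225e,
  0x25f5,
  0xfb4,
  0x230c,
  0x22e1,
  0x1eb4,
  0x16a3,
  0xfb5,
  0x2076,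
  0x1ec7,
  0x2567,
  0xfb6,
  0x277b,
  0x277c,
  0x2636,
  0xfb7,
  0x2601,
  0x26de,
  0x2877,
  0x27d8,
  0x2578,
  0xfb8,
  0x272d,
  0x27d1,
  0x278b,
  0x242b,
  0x242c,
  0xfb9,
  0x242a,
  0x242d,
  0xfba,
  0x20c4,
  0x22fe,
  0x22a3,
  0x24c8,
  0x26cf,
  0x2607,
  0x2595,
  0x2617,
  0xfbb,
  0x1815,
  0xfbc,
  0x19a7,
  0x26d0,
  0x19c4,
  0x2846,
  0xfbd,
  0x1846,
  0x20e5,
  0x1f2c,
  0x1f60,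
  0x1f61,
  0xfbe,
  0x211c,
  0x214f,
  0xfbf,
  0x2601,
  0x23fa,
  0x27d3,
  0x21fd,
  0x27a5,
  0x24e0,
  0xfc0,
  0x27a4,
  0x2686,
  0x2664,
  0xfc1,
  0x24c9,
  0x133d,
  0x262a,
  0xfc2,
  0x2869,
  0x283e,
  0x2874,
  0x288c,
  0xfc3,
  0x2430,
  0x2445,
  0x278c,
  0x2249,
  0x2649,
  0x26dd,
  0x22f1,
  0xfc4,
  0x2454,
  0x2739,
  0x2468,
  0xfc5,
  0x253a,
  0x1e0f,
  0xfe4,
  0x22fb,
  0x275a,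
  0xfc6,
  0x1f67,
  0x101c,
  0x25fa,
  0x23e8,
  0xfc7,
  0x2876,
  0x21f2,
  0xfc8,
  0x16ca,
  0x2378,
  0x2618,
  0x16bb,
  0x16b4,
  0x17dc,
  0x24cf,
  0xfc9,
  0x2774,
  0x2866,
  0x275a,
  0x27c2,
  0xfca,
  0x2266,
  0xfcb,
  0x23bd,
  0x2151,
  0x2152,
  0x212b,
  0x11b5,
  0x212a,
  0xfcc,
  0x23b8,
  0x2229,
  0x2430,
  0xfcd,
  0x2635,
  0x1f29,
  0x2802,
  0xfce,
  0x2853,
  0x2806,
  0x285f,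
  0x103b,
  0x2805,
  0x277f,
  0xfcf,
  0x26b1,
  0x280e,
  0x2866,
  0xfd0,
  0x285d,
  0x285f,
  0x2167,
  0x1f48,
  0x1fac,
  0x2564,
  0xfd1,
  0x108e,
  0x24d8,
  0x26df,
  0x24d3,
  0xfd2,
  0x26cf,
  0xfd3,
  0x2700,
  0x26d0,
  0x24c8,
  0x2782,
  0xfd4,
  0x1485,
  0x2643,
  0x2618,
  0x2273,
  0x2468,
  0x2277,
  0xfd5,
  0x1434,
  0xfd6,
  0x2805,
  0x261e,
  0x2806,
  0x261c,
  0x2802,
  0x11fe,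
  0x2613,
  0xfd7,
  0x261d,
  0x2447,
  0x231e,
  0xfd8,
  0x2375,
  0x25c1,
  0x26d7,
  0x255d,
  0xfd9,
  0x24cf,
  0x26a3,
  0x1b1b,
  0x1855,
  0x2865,
  0xfda,
  0x1ab7,
  0x1ce2,
  0x1c0c,
  0xfdb,
  0x2378,
  0x1ce3]

theorem proofsE19968_ok : cert.edgesOK tab ord 19968 proofsE19968 = true := by decide +kernel

theorem proofsE19968_len : proofsE19968.length = 332 := by decide +kernel

end Cfsg.Agent.Lib.SporPres.Rudvalis.S4060
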