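import Cfsg.Agent.Lib.SporPres.Rudvalis.S8120Tab

/-! # Generated coset enumeration data: S8120 -/

set_option autoImplicit false

namespace Cfsg.Agent.Lib.SporPres.Rudvalis.S8120

open Cfsg.Agent.Lib.Coset

/-- Packed derivations. -/
def proofsE40448 : List ℕ := [
  0x4d38,
  0x4c25,
  0x3d5c,
  0x1f9a,
  0x3d5d,
  0x4189,
  0x4946,
  0x3acd,
  0x461e,
  0x4b70,
  0x1f9b,
  0x4026,
  0x37ef,
  0x3882,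
  0x1f9c,
  0x4ad4,
  0x497a,
  0x4fc3,
  0x4e48,
  0x1f9d,
  0x4fdf,
  0x4e82,
  0x443f,
  0x5024,
  0x1f9e,
  0x5070,
  0x4d6f,
  0x45a3,
  0x44b5,
  0x1f9f,
  0x4b00,
  0x3aca,
  0x4c29,
  0x1fa0,
  0x2da3,
  0x4e65,
  0x46e2,
  0x20ed,
  0x4f7c,
  0x4f7b,
  0x1fa1,
  0x4f1c,
  0x4753,
  0x4788,
  0x1fa2,
  0x4cb8,
  0x4901,
  0x37e9,
  0x1fa3,
  0x27c5,
  0x4d4d,
  0x4ba0,
  0x4c2a,
  0x4ea7,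
  0x1fa4,
  0x4e65,
  0x46e2,
  0x5086,
  0x1fa5,
  0x4dcd,
  0x4f11,
  0x4e1b,
  0x5042,
  0x50c5,
  0x5030,
  0x510e,
  0x1fa6,
  0x4eb5,
  0x49f3,
  0x4a78,
  0x1fa7,
  0x4eb4,
  0x4df5,
  0x4c54,
  0x4e52,
  0x4e77,
  0x1fa8,
  0x5031,
  0x4f53,
  0x4f52,
  0x1fa9,
  0x50b6,
  0x50f3,
  0x1faa,
  0x50f8,
  0x50f7,
  0x4f71,
  0x1fab,
  0x4f4e,
  0x4ea3,
  0x4c23,
  0x4c25,
  0x1fac,
  0x4688,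
  0x3f3b,
  0x26e8,
  0x3f39,
  0x50f3,
  0x50c5,
  0x1fad,
  0x5070,
  0x3f3a,
  0x4ada,
  0x47d8,
  0x1fae,
  0x4dcf,
  0x42d8,
  0x3975,
  0x3dda,
  0x40b1,
  0x387a,
  0x1faf,
  0x4edd,
  0x4a76,
  0x4e6f,
  0x4f27,
  0x1fb0,
  0x4eb9,
  0x387b,
  0x50da,
  0x1fb1,
  0x50d4,
  0x20ee,
  0x4dd7,
  0x4c28,
  0x1fb2,
  0x4d04,
  0x228e,
  0x470b,
  0x3695,
  0x4ca5,
  0x1fb3,
  0x4edd,
  0x1fb4,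
  0x50d2,
  0x50e3,
  0x4ef5,
  0x4ef6,
  0x1fb5,
  0x4f7b,
  0x50fa,
  0x4c01,
  0x3c9e,
  0x3abf,
  0x4981,
  0x4fd8,
  0x1fb6,
  0x4c49,
  0x4c4c,
  0x1fb7,
  0x4fd8,
  0x284f]

theorem proofsE40448_ok : cert.edgesOK tab ord 40448 proofsE40448 = true := by decide +kernel

theorem proofsE40448_len : proofsE40448.length = 152 := by decide +kernel

end Cfsg.Agent.Lib.SporPres.Rudvalis.S8120
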