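import Cfsg.Prelude.Def_Sporadic
import Cfsg.Agent.Lib.SporPres.Rudvalis.Pres
import Cfsg.Agent.Lib.SporPres.Rudvalis.SD
import Cfsg.Agent.Lib.SporPres.Rudvalis.S780
import Cfsg.Agent.Lib.SporPres.Rudvalis.S2304
import Cfsg.Agent.Lib.SporPres.Rudvalis.S8120
import Cfsg.Agent.Lib.SporPres.Rudvalis.S4060
import Cfsg.Agent.Lib.SporPres.Rudvalis.Orbits
import Cfsg.Agent.Lib.SchurMult.Held.Faithful

/-! # A simple group of order 145926144000 on 4060 points -/

set_option autoImplicit false

namespace Cfsg.Agent.Lib.SporPres.Rudvalis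

open Cfsg.Agent.Lib.Coset

/-- The subgroup generated by the first `k` generators. -/
abbrev sub (k : ℕ) : Subgroup grp := Subgroup.closure (φ '' Set.Iio k)

theorem model {C : Cert} {k : ℕ} (hr : C.rels.all (isRot base) = true)
    (hs : lettersBelow k C.subs = true) : Cert.Model C φ (sub k) :=
  model_of φ_inv base_eq_one hr (mem_closure_letters hs)

theorem mD : Cert.Model SD.cert φ (sub 0) := model (by decide +kernel) (by decide +kernel)
theorem m780 : Cert.Model S780.cert φ (sub 2) := model (by decide +kernel) (by decide +kernel)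
theorem m2304 : Cert.Model S2304.cert φ (sub 3) := model (by decide +kernel) (by decide +kernel)
theorem m8120 : Cert.Model S8120.cert φ (sub 4) := model (by decide +kernel) (by decide +kernel)

theorem sub_three : (sub 3 : Set grp).Finite ∧ Nat.card (sub 3) ≤ 7800 := by
  have h2 := card_step (card_bot φ) (SD.covers mD)
  exact card_step h2 (S780.covers m780)

theorem sub_four : (sub 4 : Set grp).Finite ∧ Nat.card (sub 4) ≤ 17971200 :=
  card_step sub_three (S2304.covers m2304)

theorem group_step {M : ℕ} (h : Nat.card (sub 4) ≤ M) : Nat.card grp ≤ 8120 * M := by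
  have h1 := (card_step ⟨sub_four.1, h⟩ (S8120.covers m8120)).2
  rw [show Subgroup.closure (φ '' Set.Iio 5) = ⊤ from gen, Subgroup.card_top] at h1
  exact h1

theorem group_le : Finite grp ∧ Nat.card grp ≤ 145926144000 :=
  ⟨inferInstance, (group_step sub_four.2).trans (by norm_num)⟩

/-- The stabiliser of a point. -/
noncomputable abbrev stab : Subgroup grp := wordSub φ subWords

theorem m4060 : Cert.Model S4060.cert φ stab :=
  model_of φ_inv base_eq_one (by decide +kernel) fun s hs => Subgroup.subset_closure ⟨s, by
    have h : (S4060.cert.subs.all fun w => subWords.contains w) = true := by decide +kernel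
    exact List.contains_iff_mem.1 (List.all_eq_true.1 h s hs), rfl⟩

theorem sub_four_le : sub 4 ≤ stab := closure_letters_le φ (by decide +kernel)

theorem pos : 0 < tab.size := by decide +kernel

/-- The representation. -/
noncomputable def rep : Rep grp tab :=
  mkRep tab S4060.cert S4060.ord φ stab act good act_φ pos gen (by decide +kernel)
    (fun e he => S4060.edges_hold m4060 e he) (S4060.covers m4060) (by decide +kernel)
    (fix_of act_φ pos (by decide +kernel) (by decide +kernel) le_rfl)

theorem chain_ok : tab.chainOK chain = true := by decide +kernel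

theorem chain_letters : (chain.all fun l => lettersBelow tab.gens l.2.1) = true := by decide +kernel

theorem range_ge : 145926144000 ≤ Nat.card act.range := by
  have h : Tab.chainCard chain = 145926144000 := by decide +kernel
  rw [← h]
  refine tab.chain_spec good chain_ok fun l hl w hw => ⟨ev φ w, ?_⟩
  have hlt := List.all_eq_true.1 chain_letters l hl
  simp only [lettersBelow, List.all_eq_true, decide_eq_true_eq] at hlt
  rw [ev_comp, ev, ev, List.map_congr_left (f := ⇑act ∘ φ) (g := tab.perm good) fun a ha =>
    act_φ a (hlt w hw a ha)]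

theorem card_eq : Nat.card grp = 145926144000 :=
  (rep.order group_le.1 group_le.2 range_ge).1

theorem index_stab : stab.index = 4060 := rep.index_eq

theorem card_stab : Nat.card stab = 35942400 := by
  have h := Subgroup.index_mul_card stab
  rw [index_stab, card_eq] at h
  omega

theorem card_four : Nat.card (sub 4) = 17971200 := by
  have h := group_step (le_refl (Nat.card (sub 4)))
  rw [card_eq] at h
  have := sub_four.2
  omega

theorem orbit_ok : (orbs.all fun o => tab.orbitOK subWords o.1 o.2 && tab.closedOK subWords o.1 o.2) =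
    true := by decide +kernel

theorem orbits (o : ℕ × List Tab.Step) (ho : o ∈ orbs) (hb : o.1 < tab.size) :
    (MulAction.orbit (stab.map act) (⟨o.1, hb⟩ : Fin tab.size)).ncard = o.2.length + 1 ∧
      ∀ x : Fin tab.size, x ∈ MulAction.orbit (stab.map act) (⟨o.1, hb⟩ : Fin tab.size) ↔
        (x : ℕ) ∈ Tab.pts o.1 o.2 := by
  have h := List.all_eq_true.1 orbit_ok o ho
  rw [Bool.and_eq_true] at h
  exact Tab.orbit_eq good h.1 h.2
    (by rw [map_wordSub act φ (tab.perm good) act_φ (by decide +kernel)]) hb

/-- The words known to be trivial. -/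
def trivWords : List (List ℕ) :=
  [Coset.rep 29 xWordD, Coset.rep 29 xWordE,
    gWordD.reverse ++ (zWordD ++ (gWordD ++ [4])), gWordE.reverse ++ (zWordE ++ (gWordE ++ [3]))]

theorem word_lt : (trivWords.all fun w => w.all fun g => decide (g < tab.gens)) = true := by
  decide +kernel

theorem word_fix : (trivWords.all fun w => chain.all fun l => Nat.beq (tab.app w l.1) l.1) = true := by
  decide +kernel

theorem word_one {w : List ℕ} (hw : w ∈ trivWords) : ev φ w = 1 := by
  have hlt : ∀ g ∈ w, g < tab.gens := fun g hg =>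
    decide_eq_true_eq.mp (List.all_eq_true.1 (List.all_eq_true.1 word_lt w hw) g hg)
  have hact : ∀ v : List ℕ, (∀ g ∈ v, g < tab.gens) → act (ev φ v) = ev (tab.perm good) v := fun v hv => by
    rw [ev_comp, ev, ev, List.map_congr_left (f := ⇑act ∘ φ) (g := tab.perm good) fun a ha =>
      act_φ a (hv a ha)]
  have hcard : Nat.card act.range ≤ Tab.chainCard chain := by
    have hc : Tab.chainCard chain = 145926144000 := by decide +kernel
    rw [hc, ← card_eq, Nat.card_congr (MonoidHom.ofInjective act_injective).toEquiv]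
  have hgen : ∀ l ∈ chain, ∀ v ∈ l.2.1, ev (tab.perm good) v ∈ act.range := fun l hl v hv => by
    have h := List.all_eq_true.1 chain_letters l hl
    simp only [lettersBelow, List.all_eq_true, decide_eq_true_eq] at h
    exact ⟨ev φ v, hact v (h v hv)⟩
  refine act_injective ?_
  rw [map_one]
  refine Tab.eq_one_of_fix_bases good chain_ok hgen hcard _ ⟨_, rfl⟩ fun l hl i hi => ?_
  have hf := word_fix
  simp only [List.all_eq_true, Nat.beq_eq] at hf
  refine Fin.ext ?_
  rw [hact w hlt, Tab.ev_perm_apply good w hlt, hi]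
  exact hf w hw l hl

theorem cox (i j m : ℕ) (h : List.elem (Coset.rep m [i, j]) base = true) :
    (φ i * φ j) ^ m = 1 := by
  have := base_eq_one _ (List.elem_iff.1 h)
  rwa [ev_rep, ev_cons, ev_cons, ev_nil, mul_one] at this

theorem cox' (i j m : ℕ) (h : (φ i * φ j) ^ m = 1) : (φ j * φ i) ^ m = 1 := by
  have e : φ j * φ i = (φ i * φ j)⁻¹ := by
    rw [mul_inv_rev, inv_eq_of_mul_eq_one_right (φ_inv i), inv_eq_of_mul_eq_one_right (φ_inv j)]
  rw [e, inv_pow, h, inv_one]

theorem isRu : Cfsg.IsRu grp := by
  refine ⟨?_, card_eq⟩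
  have hnt : Nontrivial grp := by
    rw [← Finite.one_lt_card_iff_nontrivial, card_eq]
    norm_num
  refine ⟨fun N hN => or_iff_not_imp_left.2 fun hne => ?_⟩
  have hsup := rep.sup_eq_top act_injective (orbs := orbs) (by decide +kernel) orbits N hne
  have hco : Nat.Coprime 29 (Nat.card rep.K) := by
    show Nat.Coprime 29 (Nat.card stab)
    rw [card_stab]; norm_num
  have hxD : ev φ xWordD ∈ N := rep.mem_of_coprime hsup
    (by rw [← ev_rep]; exact word_one (by simp [trivWords])) hco
  have hxE : ev φ xWordE ∈ N := rep.mem_of_coprime hsup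
    (by rw [← ev_rep]; exact word_one (by simp [trivWords])) hco
  have hd : φ 4 ∈ N := gen_mem φ_inv (z := zWordD) (g := gWordD) (witWord_mem φ_inv hxD)
    (word_one (by simp [trivWords]))
  have he : φ 3 ∈ N := gen_mem φ_inv (z := zWordE) (g := gWordE) (witWord_mem φ_inv hxE)
    (word_one (by simp [trivWords]))
  have hc : φ 2 ∈ N :=
    mem_of_odd (φ_inv 2) (by decide) (cox' 2 4 3 (cox 2 4 3 (by decide +kernel))) hd
  have hb : φ 1 ∈ N :=
    mem_of_odd (φ_inv 1) (by decide) (cox' 1 2 3 (cox 1 2 3 (by decide +kernel))) hc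
  have ha : φ 0 ∈ N := mem_of_odd (φ_inv 0) (by decide) (cox 1 0 5 (by decide +kernel)) hb
  rw [eq_top_iff, ← gen]
  refine (Subgroup.closure_le _).2 ?_
  rintro _ ⟨k, hk, rfl⟩
  rw [Set.mem_Iio] at hk
  have hk5 : k < 5 := hk
  interval_cases k <;> assumption

end Cfsg.Agent.Lib.SporPres.Rudvalis
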