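import Cfsg.Prelude.Def_Exceptional
import Cfsg.Agent.Lib.SporPres.Rudvalis.Order
import Cfsg.Agent.Lib.SporPres.Rudvalis.PtsData
import Cfsg.Agent.Lib.SporPres.Rudvalis.OrbitsT

/-! # A simple subgroup of index two in the stabiliser -/

set_option autoImplicit false
set_option maxRecDepth 100000

namespace Cfsg.Agent.Lib.SporPres.Rudvalis.Derived

open Cfsg.Agent.Lib.Coset

/-- The subgroup. -/
abbrev big : Subgroup grp := sub 4

/-- Its generators. -/
noncomputable def ψ (k : ℕ) : big :=
  if h : k < 4 then ⟨φ k, Subgroup.subset_closure ⟨k, h, rfl⟩⟩ else 1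

theorem coe_ψ {k : ℕ} (hk : k < 4) : ((ψ k : big) : grp) = φ k := by rw [ψ, dif_pos hk]

theorem ψ_inv (k : ℕ) : ψ k * ψ k = 1 := by
  by_cases h : k < 4
  · refine Subtype.ext ?_
    rw [Subgroup.coe_mul, coe_ψ h]
    exact φ_inv k
  · rw [ψ, dif_neg h, one_mul]

theorem coe_ev {w : List ℕ} (hw : ∀ a ∈ w, a < 4) : ((ev ψ w : big) : grp) = ev φ w := by
  show big.subtype (ev ψ w) = _
  rw [ev_comp, ev, ev, List.map_congr_left (f := ⇑big.subtype ∘ ψ) (g := φ) fun a ha => coe_ψ (hw a ha)]

/-- The relators in the first four letters. -/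
def base4 : List (List ℕ) := base.filter fun w => w.all fun a => decide (a < 4)

theorem base4_one : ∀ w ∈ base4, ev ψ w = 1 := fun w hw => Subtype.ext (by
  have h := List.mem_filter.1 hw
  rw [coe_ev fun a ha => decide_eq_true_eq.mp (List.all_eq_true.1 h.2 a ha)]
  exact base_eq_one w h.1)

theorem genψ : Subgroup.closure (ψ '' Set.Iio 4) = ⊤ := by
  refine Subgroup.map_injective Subtype.val_injective (?_ : Subgroup.map big.subtype _ = Subgroup.map big.subtype _)
  rw [← MonoidHom.range_eq_map, Subgroup.range_subtype, MonoidHom.map_closure, Set.image_image]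
  exact congrArg _ (Set.image_congr fun k hk => coe_ψ hk)

/-- The table on the orbit. -/
abbrev tabT : Tab := S2304.tab

theorem size_eq : tabT.size = 2304 := rfl

theorem goodT : tabT.Good :=
  Tab.good_of_invOK (B := 1152) (fun k hk => by
    have hk' : k < 2 := by have := size_eq; omega
    interval_cases k <;> decide +kernel) (by norm_num)

theorem pts_spec : ∀ i < tabT.size, nodeOf ptsS i < 4060 ∧ nodeOf posS (nodeOf ptsS i) = i := by
  have h : (List.range 2304).all (fun i => decide (nodeOf ptsS i < 4060) &&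
      Nat.beq (nodeOf posS (nodeOf ptsS i)) i) = true := by decide +kernel
  intro i hi
  have := List.all_eq_true.1 h i (List.mem_range.2 hi)
  simp only [Bool.and_eq_true, decide_eq_true_eq, Nat.beq_eq] at this
  exact this

/-- The point of a point of the orbit. -/
noncomputable def pt (i : Fin tabT.size) : Fin tab.size := ⟨nodeOf ptsS i, (pts_spec i i.2).1⟩

theorem pt_inj : Function.Injective pt := fun i j h => Fin.ext (by
  rw [← (pts_spec i i.2).2, ← (pts_spec j j.2).2]
  exact congrArg (fun q : Fin tab.size => nodeOf posS q) h)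

/-- A permutation induces one of the orbit. -/
def Compat (g : Equiv.Perm (Fin tab.size)) (σ : Equiv.Perm (Fin tabT.size)) : Prop :=
  ∀ i, g (pt i) = pt (σ i)

theorem compat_mul {g h : Equiv.Perm (Fin tab.size)} {σ τ : Equiv.Perm (Fin tabT.size)}
    (hg : Compat g σ) (hh : Compat h τ) : Compat (g * h) (σ * τ) := fun i => by
  rw [Equiv.Perm.mul_apply, hh, hg, Equiv.Perm.mul_apply]

theorem compat_unique {g : Equiv.Perm (Fin tab.size)} {σ τ : Equiv.Perm (Fin tabT.size)}
    (hs : Compat g σ) (ht : Compat g τ) : σ = τ :=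
  Equiv.ext fun i => pt_inj ((hs i).symm.trans (ht i))

theorem moves : ∀ g < 4, ∀ i < tabT.size, tab.act g (nodeOf ptsS i) = nodeOf ptsS (tabT.act g i) := by
  have h : (List.range 4).all (fun g => (List.range 2304).all fun i =>
      Nat.beq (tab.act g (nodeOf ptsS i)) (nodeOf ptsS (tabT.act g i))) = true := by decide +kernel
  intro g hg i hi
  exact Nat.beq_eq ▸ List.all_eq_true.1 (List.all_eq_true.1 h g (List.mem_range.2 hg)) i (List.mem_range.2 hi)

theorem compat_gen (g : ℕ) (hg : g < 4) : Compat (act (φ g)) (tabT.perm goodT g) := fun i => Fin.ext (by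
  have hlt : g < tab.gens := by
    have : tab.gens = 5 := rfl
    omega
  rw [act_φ _ hlt, Tab.perm, dif_pos hlt, Tab.perm, dif_pos (show g < tabT.gens from hg)]
  exact moves g hg i i.2)

theorem exists_compat {x : grp} (hx : x ∈ big) : ∃ σ, Compat (act x) σ := by
  induction hx using Subgroup.closure_induction with
  | mem x hx =>
    obtain ⟨g, hg, rfl⟩ := hx
    exact ⟨_, compat_gen g hg⟩
  | one => exact ⟨1, fun i => by rw [map_one]; rfl⟩
  | mul x y _ _ hx hy =>
    obtain ⟨σ, hσ⟩ := hx
    obtain ⟨τ, hτ⟩ := hy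
    exact ⟨σ * τ, by rw [map_mul]; exact compat_mul hσ hτ⟩
  | inv x _ hx =>
    obtain ⟨σ, hσ⟩ := hx
    refine ⟨σ⁻¹, fun i => ?_⟩
    rw [map_inv, Equiv.Perm.inv_def, Equiv.symm_apply_eq, hσ]
    simp

/-- The action on the orbit. -/
noncomputable def actT : big →* Equiv.Perm (Fin tabT.size) :=
  MonoidHom.mk' (fun x => (exists_compat x.2).choose) fun x y =>
    compat_unique (exists_compat (x * y).2).choose_spec (by
      rw [Subgroup.coe_mul, map_mul]
      exact compat_mul (exists_compat x.2).choose_spec (exists_compat y.2).choose_spec)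

theorem actT_ψ : ∀ g < tabT.gens, actT (ψ g) = tabT.perm goodT g := fun g hg =>
  compat_unique (exists_compat (ψ g).2).choose_spec (by
    rw [coe_ψ (show g < 4 from hg)]; exact compat_gen g hg)

/-- The words of the smaller subgroup. -/
def threeWords : List (List ℕ) := [[0], [1], [2]]

/-- The smaller subgroup. -/
noncomputable abbrev sub3 : Subgroup big := wordSub ψ threeWords

theorem modelT : Cert.Model S2304.cert ψ sub3 :=
  model_of ψ_inv base4_one (by decide +kernel) fun s hs => Subgroup.subset_closure ⟨s, by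
    have h : (S2304.cert.subs.all fun w => threeWords.contains w) = true := by decide +kernel
    exact List.contains_iff_mem.1 (List.all_eq_true.1 h s hs), rfl⟩

theorem pos : 0 < tabT.size := by decide +kernel

/-- The representation on the orbit. -/
noncomputable def rep : Rep big tabT :=
  mkRep tabT S2304.cert S2304.ord ψ sub3 actT goodT actT_ψ pos genψ (by decide +kernel)
    (fun e he => S2304.edges_hold modelT e he) (S2304.covers modelT) (by decide +kernel)
    (fix_of actT_ψ pos (by decide +kernel) (by decide +kernel) le_rfl)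

theorem chain_ok : tabT.chainOK chainT = true := by decide +kernel

theorem chain_letters : (chainT.all fun l => lettersBelow tabT.gens l.2.1) = true := by decide +kernel

theorem range_ge : 17971200 ≤ Nat.card actT.range := by
  have h : Tab.chainCard chainT = 17971200 := by decide +kernel
  rw [← h]
  refine tabT.chain_spec goodT chain_ok fun l hl w hw => ⟨ev ψ w, ?_⟩
  have hlt := List.all_eq_true.1 chain_letters l hl
  simp only [lettersBelow, List.all_eq_true, decide_eq_true_eq] at hlt
  rw [ev_comp, ev, ev, List.map_congr_left (f := ⇑actT ∘ ψ) (g := tabT.perm goodT) fun a ha =>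
    actT_ψ a (hlt w hw a ha)]

theorem actT_injective : Function.Injective actT :=
  (rep.order inferInstance card_four.le range_ge).2

theorem card_sub3 : Nat.card sub3 = 7800 := by
  have h := Subgroup.index_mul_card sub3
  rw [show sub3.index = 2304 from rep.index_eq, card_four] at h
  omega

theorem orbit_ok : (orbsT.all fun o =>
    tabT.orbitOK threeWords o.1 o.2 && tabT.closedOK threeWords o.1 o.2) = true := by decide +kernel

theorem orbits (o : ℕ × List Tab.Step) (ho : o ∈ orbsT) (hb : o.1 < tabT.size) :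
    (MulAction.orbit (sub3.map actT) (⟨o.1, hb⟩ : Fin tabT.size)).ncard = o.2.length + 1 ∧
      ∀ x : Fin tabT.size, x ∈ MulAction.orbit (sub3.map actT) (⟨o.1, hb⟩ : Fin tabT.size) ↔
        (x : ℕ) ∈ Tab.pts o.1 o.2 := by
  have h := List.all_eq_true.1 orbit_ok o ho
  rw [Bool.and_eq_true] at h
  exact Tab.orbit_eq goodT h.1 h.2
    (by rw [map_wordSub actT ψ (tabT.perm goodT) actT_ψ (by decide +kernel)]) hb

/-- The words known to be trivial. -/
def trivWords : List (List ℕ) :=
  [Coset.rep 16 xWord16,
    gWordA.reverse ++ (zWordA ++ (gWordA ++ [0])), gWordB.reverse ++ (zWordB ++ (gWordB ++ [3]))]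

theorem word_lt : (trivWords.all fun w => w.all fun g => decide (g < tabT.gens)) = true := by
  decide +kernel

theorem word_fix : (trivWords.all fun w => chainT.all fun l => Nat.beq (tabT.app w l.1) l.1) = true := by
  decide +kernel

theorem word_one {w : List ℕ} (hw : w ∈ trivWords) : ev ψ w = 1 := by
  have hlt : ∀ g ∈ w, g < tabT.gens := fun g hg =>
    decide_eq_true_eq.mp (List.all_eq_true.1 (List.all_eq_true.1 word_lt w hw) g hg)
  have hact : ∀ v : List ℕ, (∀ g ∈ v, g < tabT.gens) → actT (ev ψ v) = ev (tabT.perm goodT) v :=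
    fun v hv => by
      rw [ev_comp, ev, ev, List.map_congr_left (f := ⇑actT ∘ ψ) (g := tabT.perm goodT) fun a ha =>
        actT_ψ a (hv a ha)]
  have hcard : Nat.card actT.range ≤ Tab.chainCard chainT := by
    have hc : Tab.chainCard chainT = 17971200 := by decide +kernel
    rw [hc, ← card_four, Nat.card_congr (MonoidHom.ofInjective actT_injective).toEquiv]
  have hgen : ∀ l ∈ chainT, ∀ v ∈ l.2.1, ev (tabT.perm goodT) v ∈ actT.range := fun l hl v hv => by
    have h := List.all_eq_true.1 chain_letters l hl
    simp only [lettersBelow, List.all_eq_true, decide_eq_true_eq] at h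
    exact ⟨ev ψ v, hact v (h v hv)⟩
  refine actT_injective ?_
  rw [map_one]
  refine Tab.eq_one_of_fix_bases goodT chain_ok hgen hcard _ ⟨_, rfl⟩ fun l hl i hi => ?_
  have hf := word_fix
  simp only [List.all_eq_true, Nat.beq_eq] at hf
  refine Fin.ext ?_
  rw [hact w hlt, Tab.ev_perm_apply goodT w hlt, hi]
  exact hf w hw l hl

theorem isTits : Cfsg.IsTits big := by
  refine ⟨?_, card_four⟩
  have hnt : Nontrivial big := by
    rw [← Finite.one_lt_card_iff_nontrivial, card_four]
    norm_num
  refine ⟨fun N hN => or_iff_not_imp_left.2 fun hne => ?_⟩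
  have hsup := rep.sup_eq_top actT_injective (orbs := orbsT) (by decide +kernel) orbits N hne
  -- the quotient is an image of the smaller subgroup, so it is killed by the order of the latter
  have hpow : ∀ x : big, x ^ 7800 ∈ N := fun x => by
    have hsurj : Function.Surjective ((QuotientGroup.mk' N).comp sub3.subtype) := fun q => by
      obtain ⟨g, rfl⟩ := QuotientGroup.mk'_surjective N q
      obtain ⟨k, hk, n, hn, rfl⟩ := Subgroup.mem_sup_of_normal_right.1
        (show g ∈ sub3 ⊔ N by
          have h' : sub3 ⊔ N = ⊤ := hsup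
          rw [h']; trivial)
      exact ⟨⟨k, hk⟩, by simp [map_mul, (QuotientGroup.eq_one_iff _).2 hn]⟩
    obtain ⟨y, hy⟩ := hsurj (QuotientGroup.mk' N x)
    refine (QuotientGroup.eq_one_iff _).1 ?_
    show QuotientGroup.mk' N (x ^ 7800) = 1
    rw [map_pow, ← hy, ← map_pow, ← card_sub3, pow_card_eq_one', map_one]
  have hx : ev ψ (Coset.rep 8 xWord16) ∈ N := by
    have h16 : ev ψ xWord16 ^ 16 = 1 := by rw [← ev_rep]; exact word_one (by simp [trivWords])
    have h := hpow (ev ψ xWord16)
    rwa [show (7800 : ℕ) = 16 * 487 + 8 from rfl, pow_add, pow_mul, h16, one_pow, one_mul,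
      ← ev_rep] at h
  have hxA : ev ψ xWordA ∈ N := by
    rw [show xWordA = Coset.rep 8 xWord16 by decide +kernel]
    exact hx
  have hzA : ev ψ zWordA ∈ N := by
    rw [zWordA]
    exact witWord_mem ψ_inv hxA
  have hwA : ev ψ (gWordA.reverse ++ (zWordA ++ (gWordA ++ [0]))) = 1 :=
    word_one (by simp only [trivWords, List.mem_cons, true_or, or_true])
  have ha : ψ 0 ∈ N := gen_mem ψ_inv hzA hwA
  have hxB : ev ψ xWordB ∈ N := by
    rw [show xWordB = Coset.rep 8 xWord16 by decide +kernel]
    exact hx
  have hzB : ev ψ zWordB ∈ N := by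
    rw [zWordB]
    exact witWord_mem ψ_inv hxB
  have hwB : ev ψ (gWordB.reverse ++ (zWordB ++ (gWordB ++ [3]))) = 1 :=
    word_one (by simp only [trivWords, List.mem_cons, true_or, or_true])
  have he : ψ 3 ∈ N := gen_mem ψ_inv hzB hwB
  have cox : ∀ i j m, List.elem (Coset.rep m [i, j]) base4 = true →
      (ψ i * ψ j) ^ m = 1 := fun i j m h => by
    have := base4_one _ (List.elem_iff.1 h)
    rwa [ev_rep, ev_cons, ev_cons, ev_nil, mul_one] at this
  have hb : ψ 1 ∈ N := mem_of_odd (ψ_inv 1) (by decide) (cox 0 1 5 (by decide +kernel)) ha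
  have hc : ψ 2 ∈ N := mem_of_odd (ψ_inv 2) (by decide) (cox 1 2 3 (by decide +kernel)) hb
  rw [eq_top_iff, ← genψ]
  refine (Subgroup.closure_le _).2 ?_
  rintro _ ⟨k, hk, rfl⟩
  rw [Set.mem_Iio] at hk
  interval_cases k
  exacts [ha, hb, hc, he]

end Cfsg.Agent.Lib.SporPres.Rudvalis.Derived
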