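import Cfsg.Agent.Lib.SporPres.Rudvalis.TitsPart

/-! # The permutation group on 4060 points -/

set_option autoImplicit false

namespace Cfsg.Agent.Lib.SporPres.Rudvalis

open Cfsg.Agent.Lib.Coset

theorem witness : ∃ H : Subgroup (Equiv.Perm (Fin 4060)), Cfsg.IsRu H ∧
    MulAction.IsPretransitive H (Fin 4060) ∧
      Nat.card (MulAction.stabilizer H (0 : Fin 4060)) = 35942400 ∧
        ∃ T : Subgroup (MulAction.stabilizer H (0 : Fin 4060)), Cfsg.IsTits T := by
  have ht : MulAction.IsPretransitive grp (Fin tab.size) := ⟨fun x y => by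
    obtain ⟨g, hg⟩ := rep.transitive x
    obtain ⟨h, hh⟩ := rep.transitive y
    refine ⟨h * g⁻¹, ?_⟩
    show act (h * g⁻¹) x = y
    rw [map_mul, map_inv, Equiv.Perm.mul_apply, ← hg, Equiv.Perm.inv_def]
    exact (congrArg _ (Equiv.symm_apply_apply _ _)).trans hh⟩
  have hs : MulAction.stabilizer grp (⟨0, pos⟩ : Fin tab.size) = stab :=
    Subgroup.ext fun x => (rep.mem_iff x).symm
  refine ⟨grp, isRu, ht, (congrArg (fun K : Subgroup grp => Nat.card K) hs).trans card_stab, ?_⟩
  have hle : sub 4 ≤ MulAction.stabilizer grp (⟨0, pos⟩ : Fin tab.size) := hs ▸ sub_four_le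
  have e : (sub 4).subgroupOf (MulAction.stabilizer grp (⟨0, pos⟩ : Fin tab.size)) ≃* sub 4 :=
    Subgroup.subgroupOfEquivOfLe hle
  have := Derived.isTits.1
  exact ⟨(sub 4).subgroupOf (MulAction.stabilizer grp (⟨0, pos⟩ : Fin tab.size)), e.isSimpleGroup,
    (Nat.card_congr e.toEquiv).trans Derived.isTits.2⟩

end Cfsg.Agent.Lib.SporPres.Rudvalis
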